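import Groth.Agent.GrModLib.Hilbert
import Groth.Agent.LocCohLib.Facts

/-! Hilbert functions of graded modules killed by an ideal of the degree zero ring with Artinian quotient. -/

set_option autoImplicit false
universe u

open DirectSum BigOperators GrModLib

namespace ReesSerreLib

variable {R : Type u} [CommRing R] [IsNoetherianRing R] {𝒜 : ℤ → AddSubgroup R} [GradedRing 𝒜]

/-- Local cohomology vanishes above `D`. -/
def VanAbove (a : HomogeneousIdeal 𝒜) (D : ℕ) : Prop :=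
  ∀ (M : Type u) [AddCommGroup M] [Module R M] (i : ℕ), D < i → Subsingleton (LocCoh.H a.toIdeal i M)

omit [IsNoetherianRing R] in
theorem exists_vanAbove [IsNoetherianRing R] (a : HomogeneousIdeal 𝒜) : ∃ D, VanAbove a D := by
  obtain ⟨s, hs⟩ := IsNoetherian.noetherian a.toIdeal
  refine ⟨s.toList.length, fun M _ _ i hi => LocCohLib.subsingleton_H_of_length_lt a.toIdeal s.toList ?_ i hi M⟩
  rw [← hs]
  congr 1
  ext x
  simp

/-- A module killed by an ideal of the degree zero ring. -/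
def Killed (q : Ideal (GrLC.deg0 𝒜)) (N : GrLC.GMod.{u} 𝒜) : Prop :=
  ∀ r ∈ q, ∀ x : N.carrier, (r : R) • x = 0

variable {q : Ideal (GrLC.deg0 𝒜)}

omit [IsNoetherianRing R] in
theorem Killed.sub {N : GrLC.GMod.{u} 𝒜} (h : Killed q N) (P : Submodule R N.carrier) (hP : P.IsHomogeneous N.gr) :
    Killed q (subG 𝒜 (ℳ := N.gr) P hP) := fun r hr x => Subtype.ext (h r hr x.1)

omit [IsNoetherianRing R] in
theorem Killed.quot {N : GrLC.GMod.{u} 𝒜} (h : Killed q N) (P : Submodule R N.carrier) (hP : P.IsHomogeneous N.gr) :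
    Killed q (quotG 𝒜 (ℳ := N.gr) P hP) := by
  intro r hr x
  induction x using Submodule.Quotient.induction_on with
  | _ y =>
    show (r : R) • P.mkQ y = 0
    rw [← map_smul, h r hr y, map_zero]

variable [IsArtinianRing (GrLC.deg0 𝒜 ⧸ q)]

omit [IsNoetherianRing R] in
theorem isArtinian_of_killed (X : Type u) [AddCommGroup X] [Module (GrLC.deg0 𝒜) X]
    [IsNoetherian (GrLC.deg0 𝒜) X] (h : ∀ r ∈ q, ∀ x : X, r • x = 0) : IsArtinian (GrLC.deg0 𝒜) X := by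
  have hq : Module.IsTorsionBySet (GrLC.deg0 𝒜) X q := fun x r => h r.1 r.2 x
  letI := hq.module
  haveI := hq.isScalarTower (S := GrLC.deg0 𝒜)
  haveI : Module.Finite (GrLC.deg0 𝒜) X := Module.IsNoetherian.finite _ _
  haveI : Module.Finite (GrLC.deg0 𝒜 ⧸ q) X := Module.Finite.of_restrictScalars_finite (GrLC.deg0 𝒜) _ _
  exact isArtinian_of_surjective_algebraMap (R := GrLC.deg0 𝒜 ⧸ q) (S := GrLC.deg0 𝒜) Ideal.Quotient.mk_surjective

theorem isArtinian_comp' (N : GrLC.GMod.{u} 𝒜) [Module.Finite R N.carrier] (hk : Killed q N) (n : ℤ) :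
    IsArtinian (GrLC.deg0 𝒜) (GrLC.comp 𝒜 N.gr n) :=
  haveI := isNoetherian_comp N n
  isArtinian_of_killed (q := q) _ fun r hr x => Subtype.ext (hk r hr x.1)

theorem isArtinian_Hcomp (hpos : ∀ n : ℤ, n < 0 → 𝒜 n = ⊥) {a : HomogeneousIdeal 𝒜}
    (ha : (posIdeal 𝒜).toIdeal ≤ a.toIdeal) (har : a.toIdeal ≤ (posIdeal 𝒜).toIdeal.radical)
    (N : GrLC.GMod.{u} 𝒜) [Module.Finite R N.carrier] (hk : Killed q N)
    (E : GrLC.StarInjRes 𝒜 N.gr) (i : ℕ) (n : ℤ) : IsArtinian (GrLC.deg0 𝒜) (E.Hcomp a i n) := by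
  haveI := isNoetherian_Hcomp hpos a ha har N E i n
  refine isArtinian_of_killed (q := q) _ fun r hr x => Subtype.ext ?_
  have hd : GrLC.IsGrHomDeg N.gr N.gr ((r : R) • (LinearMap.id : N.carrier →ₗ[R] N.carrier)) 0 := fun g m hm => by
    rw [LinearMap.smul_apply, LinearMap.id_apply, hk r hr m]; exact zero_mem _
  let ψ : ResMap E E ((r : R) • LinearMap.id : N.carrier →ₗ[R] N.carrier) 0 :=
    { φ := fun k => 0
      deg := fun k g m hm => zero_mem _
      comm_ε := by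
        rw [LinearMap.zero_comp]
        refine LinearMap.ext fun m => ?_
        rw [LinearMap.comp_apply, LinearMap.smul_apply, LinearMap.id_apply, hk r hr m, map_zero]
        rfl
      comm_d := fun k => by rw [LinearMap.zero_comp, LinearMap.comp_zero] }
  have h := LinearMap.congr_fun ((Hmap_smul E a (r : R) hd r.2 i).symm.trans (Hmap_eq E E a hd ψ i)) x.1
  show (r : R) • x.1 = 0
  rw [LinearMap.smul_apply, LinearMap.id_apply] at h
  rw [h]
  induction x.1 using Submodule.Quotient.induction_on with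
  | _ z => exact (Submodule.Quotient.mk_eq_zero _).2 (zero_mem _)

omit [IsArtinianRing (GrLC.deg0 𝒜 ⧸ q)] in
/-- Euler characteristics are additive in short exact sequences. -/
theorem chi_add' (hpos : ∀ n : ℤ, n < 0 → 𝒜 n = ⊥) {a : HomogeneousIdeal 𝒜}
    (ha : (posIdeal 𝒜).toIdeal ≤ a.toIdeal) (har : a.toIdeal ≤ (posIdeal 𝒜).toIdeal.radical)
    {D : ℕ} (hD : VanAbove a D)
    (A B C : GrLC.GMod.{u} 𝒜) [Module.Finite R A.carrier] [Module.Finite R B.carrier] [Module.Finite R C.carrier]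
    (f : A.carrier →ₗ[R] B.carrier) (g : B.carrier →ₗ[R] C.carrier) {d : ℤ}
    (hf : GrLC.IsGrHomDeg A.gr B.gr f d) (hg : GrLC.IsGrHomDeg B.gr C.gr g 0)
    (hfi : Function.Injective f) (hgs : Function.Surjective g) (hex : LinearMap.ker g = LinearMap.range f)
    (E₁ : GrLC.StarInjRes 𝒜 A.gr) (E₂ : GrLC.StarInjRes 𝒜 B.gr) (E₃ : GrLC.StarInjRes 𝒜 C.gr) (n : ℤ)
    (h₁ : ∀ i, IsArtinian (GrLC.deg0 𝒜) (E₁.Hcomp a i (n - d))) (h₂ : ∀ i, IsArtinian (GrLC.deg0 𝒜) (E₂.Hcomp a i n))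
    (h₃ : ∀ i, IsArtinian (GrLC.deg0 𝒜) (E₃.Hcomp a i n)) :
    chi a D E₂ n = chi a D E₁ (n - d) + chi a D E₃ n := by
  obtain ⟨δ, hδ, hinj, hle⟩ := exists_lesG A B C f g hf hg hfi hgs hex E₁ E₂ E₃ a
  let p : ∀ i, E₁.Hcomp a i (n - d) →ₗ[GrLC.deg0 𝒜] E₂.Hcomp a i n := fun i => pieceMap (Hmap_deg E₁ E₂ a hf i) (n - d) n (sub_add_cancel n d)
  let q : ∀ i, E₂.Hcomp a i n →ₗ[GrLC.deg0 𝒜] E₃.Hcomp a i n := fun i => pieceMap (Hmap_deg E₂ E₃ a hg i) n n (add_zero n)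
  let s : ∀ i, E₃.Hcomp a i n →ₗ[GrLC.deg0 𝒜] E₁.Hcomp a (i + 1) (n - d) := fun i => pieceMap (hδ i) n (n - d) (by ring)
  let u : ℕ → ℚ := fun i => qlen (K := GrLC.deg0 𝒜) (LinearMap.ker (p i))
  have hu : ∀ i, qlen (K := GrLC.deg0 𝒜) (E₁.Hcomp a i (n - d)) + qlen (K := GrLC.deg0 𝒜) (E₃.Hcomp a i n) -
      qlen (K := GrLC.deg0 𝒜) (E₂.Hcomp a i n) = u i + u (i + 1) := fun i => by
    haveI := h₁ i; haveI := h₂ i; haveI := h₃ i
    haveI := isNoetherian_Hcomp hpos a ha har A E₁ i (n - d)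
    haveI := isNoetherian_Hcomp hpos a ha har B E₂ i n
    haveI := isNoetherian_Hcomp hpos a ha har C E₃ i n
    exact qlen_five (K := GrLC.deg0 𝒜) (p i) (q i) (s i) (p (i + 1))
      (range_pieceMap _ _ (hle i).1 _ _ _ _ _)
      (range_pieceMap _ _ (hle i).2.1 _ _ _ _ _)
      (range_pieceMap _ _ (hle i).2.2 _ _ _ _ _)
  have hu0 : u 0 = 0 := by
    haveI : Subsingleton (LinearMap.ker (p 0)) := ⟨fun v w => Subtype.ext (Subtype.ext (hinj
      ((congrArg Subtype.val v.2).trans (congrArg Subtype.val w.2).symm)))⟩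
    exact qlen_subsingleton _
  have huD : u (D + 1) = 0 := by
    have hv : Van a A.gr (D + 1) (n - d) := van_of_subsingleton_H
      (hD A.carrier (D + 1) D.lt_succ_self) _
    haveI : Subsingleton (LinearMap.ker (p (D + 1))) := ⟨fun v w => Subtype.ext (Subtype.ext
      ((hv E₁ _ v.1.2).trans (hv E₁ _ w.1.2).symm))⟩
    exact qlen_subsingleton _
  have h := telescope _ _ _ u hu D
  rw [hu0, huD, mul_zero, add_zero] at h
  exact (sub_eq_zero.1 h).symm

omit [IsArtinianRing (GrLC.deg0 𝒜 ⧸ q)] in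
/-- Hilbert functions are additive in short exact sequences. -/
theorem hf_add' (A B C : GrLC.GMod.{u} 𝒜) [Module.Finite R B.carrier] (f : A.carrier →ₗ[R] B.carrier)
    (g : B.carrier →ₗ[R] C.carrier) {d : ℤ} (hf' : GrLC.IsGrHomDeg A.gr B.gr f d)
    (hg : GrLC.IsGrHomDeg B.gr C.gr g 0) (hfi : Function.Injective f) (hgs : Function.Surjective g)
    (hex : LinearMap.ker g = LinearMap.range f) (n : ℤ)
    [IsArtinian (GrLC.deg0 𝒜) (GrLC.comp 𝒜 B.gr n)] : hf B n = hf A (n - d) + hf C n := by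
  haveI := isNoetherian_comp B n
  let p : GrLC.comp 𝒜 A.gr (n - d) →ₗ[GrLC.deg0 𝒜] GrLC.comp 𝒜 B.gr n :=
    (f.restrictScalars (GrLC.deg0 𝒜)).restrict fun x hx =>
      (show f x ∈ B.gr n by simpa using hf' (n - d) x hx)
  let q : GrLC.comp 𝒜 B.gr n →ₗ[GrLC.deg0 𝒜] GrLC.comp 𝒜 C.gr n :=
    (g.restrictScalars (GrLC.deg0 𝒜)).restrict fun x hx =>
      (show g x ∈ C.gr n by simpa using hg n x hx)
  have hpq : LinearMap.range p = LinearMap.ker q := by
    refine le_antisymm ?_ fun w hw => ?_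
    · rintro _ ⟨v, rfl⟩
      exact Subtype.ext (LinearMap.mem_ker.1 (hex.ge ⟨v.1, rfl⟩))
    · obtain ⟨v, hv, hvw⟩ := preimage_homogeneous hf' (g := n - d)
        (show w.1 ∈ B.gr (n - d + d) by rw [sub_add_cancel]; exact w.2) (hex.le (congrArg Subtype.val hw))
      exact ⟨⟨v, hv⟩, Subtype.ext hvw⟩
  have hq : Function.Surjective q := fun w => by
    obtain ⟨v, hv, hvw⟩ := preimage_homogeneous hg (g := n) (show w.1 ∈ C.gr (n + 0) by rw [add_zero]; exact w.2)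
      (hgs w.1)
    exact ⟨⟨v, hv⟩, Subtype.ext hvw⟩
  have hq' : qlen (K := GrLC.deg0 𝒜) (LinearMap.range q) = qlen (K := GrLC.deg0 𝒜) (GrLC.comp 𝒜 C.gr n) :=
    qlen_congr (LinearEquiv.ofTop _ (LinearMap.range_eq_top.2 hq))
  rw [hf, hf, hf, qlen_mid p q hpq, hq',
    ← qlen_congr (LinearEquiv.ofInjective p fun v w h => Subtype.ext (hfi (congrArg Subtype.val h)))]

/-- The inductive step: a module without torsion. -/
theorem chi_step' (hpos : ∀ n : ℤ, n < 0 → 𝒜 n = ⊥) {a : HomogeneousIdeal 𝒜}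
    (ha : (posIdeal 𝒜).toIdeal ≤ a.toIdeal) (har : a.toIdeal ≤ (posIdeal 𝒜).toIdeal.radical)
    {D : ℕ} (hD : VanAbove a D) (Q : GrLC.GMod.{u} 𝒜) [Module.Finite R Q.carrier] (hQk : Killed q Q)
    (hQ : GrLC.gam (posIdeal 𝒜).toIdeal Q.carrier = ⊥) (P : Polynomial ℚ) (hP0 : P ≠ 0) {n₁ : ℤ}
    (hQP : ∀ j, n₁ ≤ j → P.eval (j : ℚ) = hf Q j)
    (ih : ∀ P' : Polynomial ℚ, P'.degree < P.degree → ∀ (N : GrLC.GMod.{u} 𝒜), Module.Finite R N.carrier → Killed q N →
      (∃ n₀ : ℤ, ∀ n : ℤ, n₀ ≤ n → P'.eval (n : ℚ) = hf N n) →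
      ∀ (E : GrLC.StarInjRes 𝒜 N.gr) (n : ℤ), hf N n - P'.eval (n : ℚ) = chi a D E n)
    (EQ : GrLC.StarInjRes 𝒜 Q.gr) (n : ℤ) : hf Q n - P.eval (n : ℚ) = chi a D EQ n := by
  obtain ⟨t, x, ht, hx, hxr⟩ := exists_pos_regular hpos hQ
  have hxQ : GrLC.IsGrHomDeg Q.gr Q.gr (x • (LinearMap.id : Q.carrier →ₗ[R] Q.carrier)) t := fun g m hm => by
    rw [add_comm]; exact smul_mem 𝒜 Q.gr hx hm
  let S₀ := LinearMap.range (x • (LinearMap.id : Q.carrier →ₗ[R] Q.carrier))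
  let S := quotG 𝒜 (ℳ := Q.gr) S₀ (range_isHomogeneous_deg hxQ)
  haveI : Module.Finite R S.carrier := finite_quotG Q S₀ _
  have hqS : GrLC.IsGrHomDeg Q.gr S.gr S₀.mkQ 0 := fun g m hm => by rw [add_zero]; exact ⟨m, hm, rfl⟩
  haveI := fun j => isArtinian_comp' Q hQk j
  let P' : Polynomial ℚ := P - Polynomial.taylor (-(t : ℚ)) P
  have hfS : ∀ j, hf Q j = hf Q (j - t) + hf S j := fun j =>
    hf_add' Q Q S _ S₀.mkQ hxQ hqS hxr S₀.mkQ_surjective S₀.ker_mkQ j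
  have hP' : ∀ j : ℤ, P'.eval (j : ℚ) = P.eval (j : ℚ) - P.eval ((j - t : ℤ) : ℚ) := fun j => by
    simp only [P', Polynomial.eval_sub, Polynomial.taylor_eval, Int.cast_sub, ← sub_eq_add_neg]
  have hlt : P'.degree < P.degree := Polynomial.degree_sub_lt_left (Polynomial.degree_taylor P _).symm hP0
    (Polynomial.leadingCoeff_taylor (r := -(t : ℚ)) (f := P)).symm
  have hSk : Killed q S := hQk.quot S₀ _
  have hAQ := fun i k => isArtinian_Hcomp hpos ha har Q hQk EQ i k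
  obtain ⟨ES⟩ := nonempty_resG S
  have hstep : ∀ j, hf Q j - P.eval (j : ℚ) - chi a D EQ j =
      hf Q (j - t) - P.eval ((j - t : ℤ) : ℚ) - chi a D EQ (j - t) := fun j => by
    have h1 := ih P' hlt S inferInstance hSk ⟨n₁ + t, fun i hi => by
      rw [hP' i, hQP i (by omega), hQP (i - t) (by omega), hfS i]; ring⟩ ES j
    have h2 := chi_add' hpos ha har hD Q Q S _ S₀.mkQ hxQ hqS hxr S₀.mkQ_surjective S₀.ker_mkQ EQ EQ ES j
      (fun i => hAQ i _) (fun i => hAQ i _) (fun i => isArtinian_Hcomp hpos ha har S hSk ES i j)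
    rw [hP' j] at h1
    linear_combination hfS j - h2 + h1
  choose r hr using fun i : Fin (D + 1) => exists_van_bound hpos a ha i Q inferInstance
  obtain ⟨r₀, hr₀⟩ := Finite.exists_le r
  have hzero : ∀ j, max (n₁) r₀ ≤ j → hf Q j - P.eval (j : ℚ) - chi a D EQ j = 0 := fun j hj => by
    rw [hQP j (le_of_max_le_left hj), sub_self, zero_sub, neg_eq_zero, chi]
    refine Finset.sum_eq_zero fun i hi => ?_
    rw [qlen_Hcomp_of_van (hr ⟨i, Finset.mem_range.1 hi⟩ j ((hr₀ _).trans (le_of_max_le_right hj))) EQ, mul_zero]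
  have hall : ∀ (c : ℕ) (j : ℤ), max (n₁) r₀ ≤ j + c * t →
      hf Q j - P.eval (j : ℚ) - chi a D EQ j = 0 := by
    intro c
    induction c with
    | zero => exact fun j hj => hzero j (by simpa using hj)
    | succ c ih' =>
      intro j hj
      have h1 := hstep (j + t)
      rw [ih' (j + t) (by push_cast at hj; linarith), add_sub_cancel_right] at h1
      exact h1.symm
  refine sub_eq_zero.1 (hall (max (n₁) r₀ - n).toNat n ?_)
  nlinarith [Int.self_le_toNat (max (n₁) r₀ - n)]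


/-- Hilbert function minus Hilbert polynomial is the Euler characteristic of local cohomology. -/
theorem hf_sub_eval_eq_chi' (hpos : ∀ n : ℤ, n < 0 → 𝒜 n = ⊥) {a : HomogeneousIdeal 𝒜}
    (ha : (posIdeal 𝒜).toIdeal ≤ a.toIdeal) (har : a.toIdeal ≤ (posIdeal 𝒜).toIdeal.radical)
    {D : ℕ} (hD : VanAbove a D) (P : Polynomial ℚ) (N : GrLC.GMod.{u} 𝒜)
    [Module.Finite R N.carrier] (hNk : Killed q N) (hP : ∃ n₀ : ℤ, ∀ n : ℤ, n₀ ≤ n → P.eval (n : ℚ) = hf N n)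
    (E : GrLC.StarInjRes 𝒜 N.gr) (n : ℤ) : hf N n - P.eval (n : ℚ) = chi a D E n := by
  suffices key : ∀ (k : WithBot ℕ) (P : Polynomial ℚ), P.degree = k → ∀ (N : GrLC.GMod.{u} 𝒜),
      Module.Finite R N.carrier → Killed q N → (∃ n₀ : ℤ, ∀ n : ℤ, n₀ ≤ n → P.eval (n : ℚ) = hf N n) →
      ∀ (E : GrLC.StarInjRes 𝒜 N.gr) (n : ℤ), hf N n - P.eval (n : ℚ) = chi a D E n from
    key _ P rfl N inferInstance hNk hP E n
  have hgam : ∀ (X : GrLC.GMod.{u} 𝒜), GrLC.gam (posIdeal 𝒜).toIdeal X.carrier = ⊤ →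
      GrLC.gam a.toIdeal X.carrier = ⊤ := fun X hX => by
    obtain ⟨c, hc⟩ := Ideal.exists_pow_le_of_le_radical_of_fg har (IsNoetherian.noetherian _)
    refine eq_top_iff.2 fun y _ => ?_
    obtain ⟨l, hl⟩ := hX.ge (Submodule.mem_top : y ∈ (⊤ : Submodule R X.carrier))
    exact ⟨c * l, fun r hr => hl r (Ideal.pow_right_mono hc l (pow_mul a.toIdeal c l ▸ hr))⟩
  intro k
  induction k using WellFoundedLT.induction with
  | ind k ih => ?_
  intro P hk N hN hNk ⟨n₀, hn₀⟩ E n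
  by_cases hP0 : P = 0
  · subst hP0
    have htors : GrLC.gam (posIdeal 𝒜).toIdeal N.carrier = ⊤ := by
      have hhom : ∀ (g : ℤ) (y : N.carrier), y ∈ N.gr g → y ∈ GrLC.gam (posIdeal 𝒜).toIdeal N.carrier := by
        intro g y hy
        refine mem_gam_of_pow (posIdeal_toIdeal 𝒜) fun x hx => ?_
        obtain ⟨t, ht, hxt⟩ := Set.mem_iUnion₂.1 hx
        refine ⟨(n₀ - g).toNat, ?_⟩
        have h1 := smul_mem 𝒜 N.gr (SetLike.pow_mem_graded (n₀ - g).toNat hxt) hy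
        rw [nsmul_eq_mul] at h1
        have hge : n₀ ≤ ((n₀ - g).toNat : ℤ) * t + g := by
          have h2 : (n₀ - g) ≤ ((n₀ - g).toNat : ℤ) := Int.self_le_toNat _
          nlinarith [Set.mem_Ioi.1 ht]
        haveI := isArtinian_comp' N hNk (((n₀ - g).toNat : ℤ) * t + g)
        haveI := isNoetherian_comp N (((n₀ - g).toNat : ℤ) * t + g)
        haveI := qlen_eq_zero (K := GrLC.deg0 𝒜) (X := GrLC.comp 𝒜 N.gr (((n₀ - g).toNat : ℤ) * t + g))
          ((hn₀ _ hge).symm.trans Polynomial.eval_zero)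
        exact congrArg Subtype.val (Subsingleton.elim
          (⟨_, h1⟩ : GrLC.comp 𝒜 N.gr (((n₀ - g).toNat : ℤ) * t + g)) 0)
      refine eq_top_iff.2 fun y _ => ?_
      obtain ⟨s, -, hs⟩ := exists_finset N.gr y
      rw [← hs]
      exact sum_mem fun g _ => hhom g _ (pr_mem N.gr g y)
    rw [chi_of_torsion N (hgam N htors), Polynomial.eval_zero, sub_zero]
  let T₀ := GrLC.gam (posIdeal 𝒜).toIdeal N.carrier
  have hT₀ : T₀.IsHomogeneous N.gr := gam_isHomogeneous (posIdeal 𝒜)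
  let T := subG 𝒜 (ℳ := N.gr) T₀ hT₀
  let Q := quotG 𝒜 (ℳ := N.gr) T₀ hT₀
  haveI : Module.Finite R T.carrier := finite_subG N T₀ hT₀
  haveI : Module.Finite R Q.carrier := finite_quotG N T₀ hT₀
  have hiT : GrLC.IsGrHomDeg T.gr N.gr T₀.subtype 0 := fun g m hm => by rw [add_zero]; exact hm
  have hqT : GrLC.IsGrHomDeg N.gr Q.gr T₀.mkQ 0 := fun g m hm => by rw [add_zero]; exact ⟨m, hm, rfl⟩
  have hexT : LinearMap.ker T₀.mkQ = LinearMap.range T₀.subtype := (Submodule.ker_mkQ T₀).trans T₀.range_subtype.symm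
  have hTt : GrLC.gam (posIdeal 𝒜).toIdeal T.carrier = ⊤ := eq_top_iff.2 fun m _ =>
    (m : T₀).2.imp fun k hk r hr => Subtype.ext (hk r hr)
  have hfN : ∀ j, hf N j = hf T j + hf Q j := fun j => by
    haveI := isArtinian_comp' N hNk j
    rw [hf_add' T N Q T₀.subtype T₀.mkQ hiT hqT T₀.injective_subtype T₀.mkQ_surjective hexT j, sub_zero]
  have hTk : Killed q T := hNk.sub T₀ hT₀
  have hQk : Killed q Q := hNk.quot T₀ hT₀
  obtain ⟨ET⟩ := nonempty_resG T
  obtain ⟨EQ⟩ := nonempty_resG Q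
  rw [chi_add' hpos ha har hD T N Q T₀.subtype T₀.mkQ hiT hqT T₀.injective_subtype T₀.mkQ_surjective hexT ET E EQ n
      (fun i => isArtinian_Hcomp hpos ha har T hTk ET i _) (fun i => isArtinian_Hcomp hpos ha har N hNk E i _)
      (fun i => isArtinian_Hcomp hpos ha har Q hQk EQ i _),
    sub_zero, chi_of_torsion T (hgam T hTt), hfN n, add_sub_assoc]
  congr 1
  obtain ⟨B, hB⟩ := exists_piece_bound hpos T.gr
  have hTz : ∀ j, B ≤ j → hf T j = 0 := fun j hj => by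
    haveI : Subsingleton (GrLC.comp 𝒜 T.gr j) := ⟨fun u v => Subtype.ext
      ((hB j _ hj u.2 (hTt.ge Submodule.mem_top)).trans (hB j _ hj v.2 (hTt.ge Submodule.mem_top)).symm)⟩
    exact qlen_subsingleton _
  have hQP : ∀ j, max n₀ B ≤ j → P.eval (j : ℚ) = hf Q j := fun j hj => by
    rw [hn₀ j (le_of_max_le_left hj), hfN j, hTz j (le_of_max_le_right hj), zero_add]
  exact chi_step' hpos ha har hD Q hQk (gam_quot_gam _) P hP0 hQP
    (fun P' hlt N' hN' hk' hP' => ih _ (hk ▸ hlt) P' rfl N' hN' hk' hP') EQ n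

end ReesSerreLib
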