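import Groth.Agent.ReesSerreLib.Rees

/-! Hilbert–Samuel function, polynomial and local cohomology of the Rees module. -/

set_option autoImplicit false
universe u

open DirectSum GrModLib Polynomial BigOperators

namespace ReesSerreLib

section Abstract

variable {R : Type u} [CommRing R] [IsNoetherianRing R] {𝒜 : ℤ → AddSubgroup R} [GradedRing 𝒜]

/-- The abstract form of Serre's formula for a module with a degree shifting self-embedding of its positive part. -/
theorem euler_abstract (hpos : ∀ n : ℤ, n < 0 → 𝒜 n = ⊥) {a : HomogeneousIdeal 𝒜}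
    (ha1 : (posIdeal 𝒜).toIdeal ≤ a.toIdeal) (har : a.toIdeal ≤ (posIdeal 𝒜).toIdeal.radical)
    (q : Ideal (GrLC.deg0 𝒜)) [IsArtinianRing (GrLC.deg0 𝒜 ⧸ q)]
    (N Pp Z C : GrLC.GMod.{u} 𝒜) [Module.Finite R N.carrier] [Module.Finite R Pp.carrier] [Module.Finite R Z.carrier]
    [Module.Finite R C.carrier] (hCk : Killed q C)
    (ι : Pp.carrier →ₗ[R] N.carrier) (π : N.carrier →ₗ[R] Z.carrier) (hι : GrLC.IsGrHomDeg Pp.gr N.gr ι 0)
    (hπ : GrLC.IsGrHomDeg N.gr Z.gr π 0) (hιi : Function.Injective ι) (hπs : Function.Surjective π)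
    (hex : LinearMap.ker π = LinearMap.range ι) (hvZ : ∀ (i : ℕ) (k : ℤ), k ≠ 0 → Van a Z.gr i k)
    (u : Pp.carrier →ₗ[R] N.carrier) (γ : N.carrier →ₗ[R] C.carrier) (hu : GrLC.IsGrHomDeg Pp.gr N.gr u (-1))
    (hγ : GrLC.IsGrHomDeg N.gr C.gr γ 0) (hui : Function.Injective u) (hγs : Function.Surjective γ)
    (hex' : LinearMap.ker γ = LinearMap.range u)
    (L : ℕ → ℚ) (hLsucc : ∀ m : ℕ, L (m + 1) = hf C m + L m) (P : Polynomial ℚ)
    (hP : ∃ N₀ : ℕ, ∀ m : ℕ, N₀ ≤ m → P.eval (m : ℚ) = L m)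
    (E : GrLC.StarInjRes 𝒜 N.gr) (n : ℕ) :
    (∀ i : ℕ, IsFiniteLength (GrLC.deg0 𝒜) (E.Hcomp a i (n : ℤ))) ∧
      Set.Finite {i : ℕ | E.Hcomp a i (n : ℤ) ≠ ⊥} ∧
      P.eval (n : ℚ) - L n = finsum (fun i : ℕ => (-1 : ℚ) ^ i *
          ((Module.length (GrLC.deg0 𝒜) (E.Hcomp a i (n : ℤ))).toNat : ℚ)) := by
  obtain ⟨D, hD⟩ := exists_vanAbove a
  obtain ⟨EP⟩ := nonempty_resG Pp
  obtain ⟨EZ⟩ := nonempty_resG Z
  obtain ⟨EC⟩ := nonempty_resG C
  obtain ⟨δ, hδ, hinj, hle⟩ := exists_lesG Pp N Z ι π hι hπ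
    hιi hπs hex EP E EZ a
  have hsame : ∀ (i : ℕ) (k : ℤ), k ≠ 0 →
      Nonempty (EP.Hcomp a i k ≃ₗ[GrLC.deg0 𝒜] E.Hcomp a i k) := fun i k hk => by
    have hZ : ∀ (j : ℕ) (w : EZ.Hcomp a j k), w = 0 := fun j w => Subtype.ext (hvZ j k hk EZ _ w.2)
    let p := pieceMap (Hmap_deg EP E a hι i) k k (add_zero k)
    refine ⟨LinearEquiv.ofBijective p ⟨?_, ?_⟩⟩
    · rw [injective_iff_map_eq_zero]
      intro x hx
      cases i with
      | zero => exact Subtype.ext (hinj ((congrArg Subtype.val hx).trans (map_zero _).symm))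
      | succ i =>
        have h1 := range_pieceMap (hδ i) (Hmap_deg EP E a hι (i + 1)) (hle i).2.2 k k k (by ring) (add_zero k)
        obtain ⟨w, rfl⟩ := h1.ge (LinearMap.mem_ker.2 hx)
        rw [hZ i w, map_zero]
    · intro y
      have h1 := range_pieceMap (Hmap_deg EP E a hι i) (Hmap_deg E EZ a hπ i) (hle i).1 k k k (add_zero k) (add_zero k)
      exact LinearMap.mem_range.1 (h1.ge (LinearMap.mem_ker.2 (hZ i _)))
  -- the shifted inclusion
  obtain ⟨δ', hδ', -, hle'⟩ := exists_lesG Pp N C u γ hu hγ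
    hui hγs hex' EP E EC a
  choose r hr using fun i : ℕ => exists_van_bound hpos a ha1 i N inferInstance
  have hart : ∀ (c i : ℕ) (k : ℤ), 0 ≤ k → r i ≤ k + c → IsArtinian (GrLC.deg0 𝒜) (E.Hcomp a i k) := by
    intro c
    induction c with
    | zero =>
      intro i k _ hk
      haveI : Subsingleton (E.Hcomp a i k) := ⟨fun u v => Subtype.ext
        ((hr i k (by simpa using hk) E _ u.2).trans (hr i k (by simpa using hk) E _ v.2).symm)⟩
      infer_instance
    | succ c ih =>
      intro i k hk0 hk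
      obtain ⟨e⟩ := hsame i (k + 1) (by omega)
      haveI := ih i (k + 1) (by omega) (by push_cast at hk; omega)
      haveI : IsArtinian (GrLC.deg0 𝒜) (EP.Hcomp a i (k + 1)) := isArtinian_of_linearEquiv e.symm
      haveI := isArtinian_Hcomp (q := q) hpos ha1 har C hCk EC i k
      exact isArtinian_of_range_eq_ker _ _
        (range_pieceMap (Hmap_deg EP E a hu i) (Hmap_deg E EC a hγ i) (hle' i).1 (k + 1) k k
          (by ring) (add_zero k))
  have hart' : ∀ (i : ℕ) (k : ℤ), 0 ≤ k → IsArtinian (GrLC.deg0 𝒜) (E.Hcomp a i k) := fun i k hk =>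
    hart (r i - k).toNat i k hk (by have := Int.self_le_toNat (r i - k); omega)
  obtain ⟨N₀, hN₀⟩ := hP
  let Q : Polynomial ℚ := Polynomial.taylor 1 P - P
  have hQ : ∀ x : ℚ, Q.eval x = P.eval (x + 1) - P.eval x := fun x => by
    simp only [Q, Polynomial.eval_sub, Polynomial.taylor_eval]
  have hQC : ∀ k : ℤ, (N₀ : ℤ) ≤ k → Q.eval (k : ℚ) = hf C k := fun k hk => by
    obtain ⟨m, rfl⟩ := Int.eq_ofNat_of_zero_le (show 0 ≤ k by omega)
    have h1 := hN₀ (m + 1) (by omega)
    have h2 := hN₀ m (by omega)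
    push_cast at h1
    rw [hQ, Int.cast_natCast, h1, h2]
    rw [hLsucc]; ring
  let F : ℕ → ℚ := fun m => chi a D E (m : ℤ) - (P.eval (m : ℚ) - L m)
  have hstep : ∀ m : ℕ, F m = F (m + 1) := fun m => by
    have hiso : chi a D EP ((m : ℤ) + 1) = chi a D E ((m : ℤ) + 1) := Finset.sum_congr rfl fun i _ => by
      obtain ⟨e⟩ := hsame i ((m : ℤ) + 1) (by omega)
      rw [qlen_congr e]
    have h1 : chi a D E (m : ℤ) = chi a D EP ((m : ℤ) - -1) + chi a D EC (m : ℤ) :=
      chi_add' hpos ha1 har hD Pp N C u γ hu hγ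
        hui hγs hex' EP E EC (m : ℤ)
        (fun i => by
          obtain ⟨e⟩ := hsame i ((m : ℤ) - -1) (by omega)
          haveI := hart' i ((m : ℤ) - -1) (by omega)
          exact isArtinian_of_linearEquiv e.symm)
        (fun i => hart' i m (by omega))
        (fun i => isArtinian_Hcomp (q := q) hpos ha1 har C hCk EC i m)
    have h2 := hf_sub_eval_eq_chi' (q := q) hpos ha1 har hD Q C hCk ⟨N₀, hQC⟩ EC (m : ℤ)
    rw [hQ, Int.cast_natCast] at h2
    rw [sub_neg_eq_add, hiso] at h1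
    simp only [F, Nat.cast_add, Nat.cast_one]
    linear_combination h1 - h2 - hLsucc m
  obtain ⟨B, hB⟩ := Finite.exists_le fun i : Fin (D + 1) => r i
  have hFz : ∀ m : ℕ, N₀ ≤ m → B ≤ (m : ℤ) → F m = 0 := fun m hm hmB => by
    simp only [F]
    rw [← hN₀ m hm, sub_self, sub_zero, chi]
    refine Finset.sum_eq_zero fun i hi => ?_
    rw [qlen_Hcomp_of_van (hr i m ((hB ⟨i, Finset.mem_range.1 hi⟩).trans hmB)) E, mul_zero]
  have hFc : ∀ c m : ℕ, F m = F (m + c) := fun c => by
    induction c with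
    | zero => exact fun m => rfl
    | succ c ih => exact fun m => (ih m).trans (hstep (m + c))
  have hF : F n = 0 := by
    rw [hFc (N₀ + B.toNat) n]
    refine hFz _ (by omega) ?_
    have := Int.self_le_toNat B
    push_cast; omega
  have hvD : ∀ i, D < i → Van a N.gr i (n : ℤ) := fun i hi => van_of_subsingleton_H (hD N.carrier i hi) _
  refine ⟨fun i => isFiniteLength_iff_isNoetherian_isArtinian.2
    ⟨isNoetherian_Hcomp hpos a ha1 har N E i n, hart' i n (by omega)⟩, ?_, ?_⟩
  · refine (Set.finite_Iic D).subset fun i hi => ?_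
    by_contra h
    exact hi (eq_bot_iff.2 fun x hx => (Submodule.mem_bot _).2 (hvD i (by simpa using h) E x hx))
  · rw [finsum_eq_sum_of_support_subset (s := Finset.range (D + 1)) _ fun i hi => ?_]
    · exact (sub_eq_zero.1 hF).symm
    · simp only [Function.mem_support] at hi
      by_contra h
      simp only [Finset.coe_range, Set.mem_Iio, not_lt] at h
      exact hi (by
        have := qlen_Hcomp_of_van (hvD i h) E
        unfold qlen at this
        rw [this, mul_zero])

end Abstract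

variable {A : Type u} [CommRing A] (I : Ideal A) (M : Type u) [AddCommGroup M] [Module A M]

/-- The degree zero quotient of the Rees module. -/
noncomputable def gZ : GrLC.GMod.{u} (gR I) :=
  quotG (gR I) (ℳ := (gN I M).gr) (plus I M) (plus_isHomogeneous I M)

theorem gam_gZ : GrLC.gam (posIdeal (gR I)).toIdeal (gZ I M).carrier = ⊤ := by
  refine eq_top_iff.2 fun x _ => ⟨1, fun r hr => ?_⟩
  rw [pow_one] at hr
  induction x using Submodule.Quotient.induction_on with
  | _ y =>
    show r • (plus I M).mkQ y = 0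
    rw [← map_smul, Submodule.mkQ_apply, Submodule.Quotient.mk_eq_zero]
    show co (r • y) 0 = 0
    have h0 : ((r : A[X])).coeff 0 = 0 := by
      rw [posIdeal_toIdeal] at hr
      induction hr using Submodule.span_induction with
      | mem r hr =>
        obtain ⟨n, hn, hrn⟩ := Set.mem_iUnion₂.1 hr
        exact (Rees.mem_degZ_iff _ _ _).1 hrn 0 (by simp at hn ⊢; omega)
      | zero => simp
      | add r s _ _ h h' => rw [Subalgebra.coe_add, Polynomial.coeff_add, h, h', add_zero]
      | smul c r _ h => rw [smul_eq_mul, Subalgebra.coe_mul, Polynomial.mul_coeff_zero, h, mul_zero]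
    rw [co_smul, Finset.Nat.antidiagonal_zero, Finset.sum_singleton, h0, zero_smul]

variable [IsNoetherianRing A]

theorem van_gZ (a : HomogeneousIdeal (gR I)) (ha : a.toIdeal = (posIdeal (gR I)).toIdeal) (i : ℕ) {n : ℤ}
    (hn : n ≠ 0) : Van a (gZ I M).gr i n := by
  rcases i with _ | i
  · intro E x hx
    obtain ⟨z, hz, rfl⟩ := hx
    obtain ⟨v, hv, hvz⟩ := preimage_homogeneous (ε_deg E) (g := n)
      (show (z : (E.X 0).carrier) ∈ (E.X 0).gr (n + 0) by rw [add_zero]; exact hz) (E.exact_zero.le z.2.2)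
    obtain ⟨y, hy, rfl⟩ := hv
    have h0 : (plus I M).mkQ y = 0 :=
      (Submodule.Quotient.mk_eq_zero _).2 (co_of_mem hy 0 (fun h => hn (by simpa using h.symm)))
    rw [show z = 0 from Subtype.ext (hvz.symm.trans ((congrArg E.ε h0).trans (map_zero _))), map_zero]
  · exact van_of_torsion (by rw [ha]; exact gam_gZ I M) (Nat.le_add_left 1 i) n

variable [Module.Finite A M]

theorem finite_gN : Module.Finite (reesAlgebra I) (gN I M).carrier :=
  Module.Finite.iff_fg.2 ((Ideal.Filtration.submodule_fg_iff_stable (Rees.powFilt I M)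
    fun i => IsNoetherian.noetherian _).2 (Ideal.stableFiltration_stable I _))

variable [IsLocalRing A]

theorem length_step (hI : I.radical = IsLocalRing.maximalIdeal A) : ∀ m : ℕ,
    ((Module.length A (M ⧸ (I ^ (m + 1) • ⊤ : Submodule A M))).toNat : ℚ) =
      hf (gC I M) (m : ℤ) + ((Module.length A (M ⧸ (I ^ m • ⊤ : Submodule A M))).toNat : ℚ) := by
  haveI := finite_gN I M
  haveI := isArtinianRing_quot I hI
  haveI : Module.Finite (reesAlgebra I) (gC I M).carrier := finite_quotG (gN I M) _ _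
  have hgfin : ∀ m : ℕ, Module.length A (grPc I M m) ≠ ⊤ := fun m => by
    rw [← length_comp_gC]
    haveI := isNoetherian_comp (gC I M) (m : ℤ)
    haveI := isArtinian_comp' (q := I.map (rho I)) (gC I M) (killed_gC I M) (m : ℤ)
    exact Module.length_ne_top
  have hLfin : ∀ m : ℕ, Module.length A (M ⧸ (I ^ m • ⊤ : Submodule A M)) ≠ ⊤ := fun m => by
    induction m with
    | zero =>
      haveI : Subsingleton (M ⧸ (I ^ 0 • ⊤ : Submodule A M)) :=
        Submodule.Quotient.subsingleton_iff.2 (by rw [pow_zero, Ideal.one_eq_top, Submodule.top_smul])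
      rw [Module.length_eq_zero]; exact ENat.zero_ne_top
    | succ m ih => rw [length_quot_succ]; exact WithTop.add_ne_top.2 ⟨hgfin m, ih⟩
  intro m
  show ((Module.length A (M ⧸ (I ^ (m + 1) • ⊤ : Submodule A M))).toNat : ℚ) = qlen _ + _
  rw [length_quot_succ, ENat.toNat_add (hgfin m) (hLfin m), Nat.cast_add, qlen, length_comp_gC]

/-- Serre's formula for Rees modules. -/
theorem euler (hI : I.radical = IsLocalRing.maximalIdeal A) (a : HomogeneousIdeal (gR I))
    (ha : a.toIdeal = (posIdeal (gR I)).toIdeal) (P : Polynomial ℚ)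
    (hP : ∃ N : ℕ, ∀ n : ℕ, N ≤ n →
      P.eval (n : ℚ) = ((Module.length A (M ⧸ (I ^ n • ⊤ : Submodule A M))).toNat : ℚ))
    (E : GrLC.StarInjRes (gR I) (gN I M).gr) (n : ℕ) :
    (∀ i : ℕ, IsFiniteLength (GrLC.deg0 (gR I)) (E.Hcomp a i (n : ℤ))) ∧
      Set.Finite {i : ℕ | E.Hcomp a i (n : ℤ) ≠ ⊥} ∧
      P.eval (n : ℚ) - ((Module.length A (M ⧸ (I ^ n • ⊤ : Submodule A M))).toNat : ℚ) =
        finsum (fun i : ℕ => (-1 : ℚ) ^ i *
          ((Module.length (GrLC.deg0 (gR I)) (E.Hcomp a i (n : ℤ))).toNat : ℚ)) := by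
  haveI := finite_gN I M
  haveI := isArtinianRing_quot I hI
  haveI : Module.Finite (reesAlgebra I) (gP I M).carrier := finite_subG (gN I M) (plus I M) _
  haveI : Module.Finite (reesAlgebra I) (gZ I M).carrier := finite_quotG (gN I M) (plus I M) _
  haveI : Module.Finite (reesAlgebra I) (gC I M).carrier := finite_quotG (gN I M) _ _
  refine euler_abstract (gR_neg I) ha.ge (ha.le.trans Ideal.le_radical) (I.map (rho I)) (gN I M) (gP I M) (gZ I M)
    (gC I M) ?_ (plus I M).subtype (plus I M).mkQ ?_ ?_ (Submodule.injective_subtype _) (Submodule.mkQ_surjective _)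
    ((Submodule.ker_mkQ _).trans (plus I M).range_subtype.symm) (fun i k hk => van_gZ I M a ha i hk)
    (down I M) (LinearMap.range (down I M)).mkQ (down_deg I M) ?_ (down_injective I M) (Submodule.mkQ_surjective _)
    (Submodule.ker_mkQ _) (fun m => ((Module.length A (M ⧸ (I ^ m • ⊤ : Submodule A M))).toNat : ℚ)) ?_ P hP E n
  · exact killed_gC I M
  · exact fun g m hm => by rw [add_zero]; exact hm
  · exact fun g m hm => by rw [add_zero]; exact ⟨m, hm, rfl⟩
  · exact fun g m hm => by rw [add_zero]; exact ⟨m, hm, rfl⟩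
  · exact length_step I M hI

end ReesSerreLib
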