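import Groth.Agent.ReesSerreLib.Killed
import Groth.Agent.GrModLib.Bridge
import Groth.Agent.GrModLib.Fun
import Groth.Prelude.Def_ReesMod
import Groth.Prelude.Def_GrSyz

/-! The Euler characteristic of the local cohomology of a Rees module. -/

set_option autoImplicit false
universe u

open DirectSum GrModLib Polynomial

namespace ReesSerreLib

variable {A : Type u} [CommRing A] (I : Ideal A)

/-- The grading of the Rees algebra, by additive subgroups. -/
noncomputable abbrev gR : ℤ → AddSubgroup (reesAlgebra I) := GrModLib.toAdd (Rees.degZ (reesAlgebra I))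

theorem gR_neg (n : ℤ) (hn : n < 0) : gR I n = ⊥ := by
  refine eq_bot_iff.2 fun f hf => ?_
  have h : ∀ m : ℕ, (f : A[X]).coeff m = 0 := fun m => (Rees.mem_degZ_iff _ _ _).1 hf m (by omega)
  exact (AddSubgroup.mem_bot).2 (Subtype.ext (Polynomial.ext h))

/-- The base ring in degree zero. -/
noncomputable def rho : A →+* GrLC.deg0 (gR I) :=
  (algebraMap A (reesAlgebra I)).codRestrict (GrLC.deg0 (gR I)) fun a => by
    show algebraMap A (reesAlgebra I) a ∈ gR I 0
    refine (Rees.mem_degZ_iff _ _ _).2 fun m hm => ?_
    show (Polynomial.C a).coeff m = 0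
    rw [Polynomial.coeff_C, if_neg (by omega)]

theorem coe_rho (a : A) : ((rho I a : GrLC.deg0 (gR I)) : reesAlgebra I) = algebraMap A (reesAlgebra I) a := rfl

theorem rho_surjective : Function.Surjective (rho I) := fun f => by
  refine ⟨((f : reesAlgebra I) : A[X]).coeff 0, Subtype.ext (Subtype.ext (Polynomial.ext fun m => ?_))⟩
  show (Polynomial.C _).coeff m = _
  rw [Polynomial.coeff_C]
  rcases eq_or_ne m 0 with h | h
  · subst h; rw [if_pos rfl]
  · rw [if_neg h, (Rees.mem_degZ_iff _ _ _).1 f.2 m (by omega)]

theorem isArtinianRing_quot [IsNoetherianRing A] [IsLocalRing A] (hI : I.radical = IsLocalRing.maximalIdeal A) :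
    IsArtinianRing (GrLC.deg0 (gR I) ⧸ I.map (rho I)) := by
  haveI : IsArtinianRing (A ⧸ I) := by
    refine isArtinianRing_iff_isNoetherianRing_krullDimLE_zero.2 ⟨inferInstance, Ring.KrullDimLE.mk₀ fun P hP => ?_⟩
    have hle : IsLocalRing.maximalIdeal A ≤ P.comap (Ideal.Quotient.mk I) := by
      rw [← hI]
      exact (hP.comap _).radical_le_iff.2 fun x hx => by
        rw [Ideal.mem_comap, Ideal.Quotient.eq_zero_iff_mem.2 hx]; exact P.zero_mem
    have he : P.comap (Ideal.Quotient.mk I) = IsLocalRing.maximalIdeal A :=
      ((IsLocalRing.maximalIdeal.isMaximal A).eq_of_le (Ideal.IsPrime.ne_top (hP.comap _)) hle).symm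
    have h2 := Ideal.map_comap_of_surjective _ Ideal.Quotient.mk_surjective P
    rw [he] at h2
    rw [← h2]
    exact (Ideal.map_eq_top_or_isMaximal_of_surjective _ Ideal.Quotient.mk_surjective
      (IsLocalRing.maximalIdeal.isMaximal A)).resolve_left (fun h => hP.ne_top (h2.symm.trans h))
  refine Function.Surjective.isArtinianRing (f := Ideal.quotientMap (I.map (rho I)) (rho I) Ideal.le_comap_map) ?_
  intro x
  obtain ⟨y, rfl⟩ := Ideal.Quotient.mk_surjective x
  obtain ⟨a, rfl⟩ := rho_surjective I y
  exact ⟨Ideal.Quotient.mk I a, rfl⟩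

variable (M : Type u) [AddCommGroup M] [Module A M]

/-- The Rees module as a graded module. -/
noncomputable abbrev gN : GrLC.GMod.{u} (gR I) :=
  GrLC.GMod.of (gR I) (Rees.powFilt I M).submodule (GrModLib.toAdd (Rees.mdegZ (Rees.powFilt I M)))

variable {I M}

/-- An element of the graded Rees module, seen in the Rees module. -/
noncomputable abbrev sub (x : (gN I M).carrier) : (Rees.powFilt I M).submodule := x

/-- The coefficient of an element of the Rees module. -/
noncomputable def co (x : (gN I M).carrier) (m : ℕ) : M :=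
  (sub x : PolynomialModule A M).coeff m

theorem co_mem (x : (gN I M).carrier) (m : ℕ) : co x m ∈ (I ^ m • ⊤ : Submodule A M) :=
  (sub x).2 m

theorem co_ext {x y : (gN I M).carrier} (h : ∀ m, co x m = co y m) : x = y :=
  Subtype.ext (PolynomialModule.ext (Finsupp.ext h))

theorem co_add (x y : (gN I M).carrier) (m : ℕ) : co (x + y) m = co x m + co y m := rfl

theorem co_zero (m : ℕ) : co (0 : (gN I M).carrier) m = 0 := rfl

theorem co_smul (a : reesAlgebra I) (x : (gN I M).carrier) (m : ℕ) :
    co (a • x) m = ∑ p ∈ Finset.HasAntidiagonal.antidiagonal m, (a : A[X]).coeff p.1 • co x p.2 :=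
  PolynomialModule.smul_apply _ _ _

theorem co_algebraMap_smul (a : A) (x : (gN I M).carrier) (m : ℕ) :
    co (algebraMap A (reesAlgebra I) a • x) m = a • co x m := by
  rw [co_smul]
  rw [Finset.sum_eq_single (0, m)]
  · show (Polynomial.C a).coeff 0 • _ = _
    rw [Polynomial.coeff_C_zero]
  · rintro ⟨p, q⟩ hp hne
    show (Polynomial.C a).coeff p • _ = 0
    rw [Polynomial.coeff_C, if_neg, zero_smul]
    rintro rfl
    exact hne (by simp at hp; rw [hp])
  · simp

theorem co_of_mem {n : ℤ} {x : (gN I M).carrier} (hx : x ∈ (gN I M).gr n) (m : ℕ) (hm : (m : ℤ) ≠ n) : co x m = 0 :=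
  hx m hm

theorem co_pr (g : ℤ) (x : (gN I M).carrier) (m : ℕ) :
    co (pr (gN I M).gr g x) m = if (m : ℤ) = g then co x m else 0 := by
  induction x using GrModLib.induction (gN I M).gr with
  | h0 => simp [co_zero]
  | hmem j y hy =>
    by_cases hj : j = g
    · subst hj
      rw [pr_self _ hy]
      split_ifs with h
      · rfl
      · exact co_of_mem hy m h
    · rw [pr_ne _ hy hj, co_zero]
      split_ifs with h
      · exact (co_of_mem hy m (h ▸ fun e => hj e.symm)).symm
      · rfl
  | hadd a b ha hb =>
    rw [map_add, co_add, ha, hb, co_add]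
    split_ifs <;> simp

variable (I M)

/-- The elements without constant term. -/
noncomputable def plus : Submodule (reesAlgebra I) (gN I M).carrier where
  carrier := {x | co x 0 = 0}
  add_mem' {x y} hx hy := by
    show co (x + y) 0 = 0
    rw [co_add, show co x 0 = 0 from hx, show co y 0 = 0 from hy, add_zero]
  zero_mem' := co_zero 0
  smul_mem' a x hx := by
    show co (a • x) 0 = 0
    rw [co_smul, Finset.Nat.antidiagonal_zero, Finset.sum_singleton, show co x 0 = 0 from hx, smul_zero]

theorem plus_isHomogeneous : (plus I M).IsHomogeneous (gN I M).gr := fun g x hx => by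
  show co (pr (gN I M).gr g x) 0 = 0
  rw [co_pr, show co x 0 = 0 from hx, ite_self]

/-- The positive part. -/
noncomputable def gP : GrLC.GMod.{u} (gR I) := subG (gR I) (ℳ := (gN I M).gr) (plus I M) (plus_isHomogeneous I M)

/-- Shifting down, as an additive map. -/
noncomputable def downFun (x : plus I M) : (gN I M).carrier :=
  (⟨PolynomialModule.ofCoeff A ((sub (x : (gN I M).carrier) : PolynomialModule A M).coeff.comapDomain
    (fun k => k + 1) (fun _ _ _ _ h => by simpa using h)), fun m => by
      show co (x : (gN I M).carrier) (m + 1) ∈ _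
      exact Submodule.smul_mono_left (Ideal.pow_le_pow_right (Nat.le_succ m)) (co_mem (x : (gN I M).carrier) (m + 1))⟩ :
    (Rees.powFilt I M).submodule)

theorem co_downFun (x : plus I M) (m : ℕ) : co (downFun I M x) m = co (x : (gN I M).carrier) (m + 1) := rfl

/-- Shifting down is linear. -/
noncomputable def down : ↥(plus I M) →ₗ[reesAlgebra I] (gN I M).carrier where
  toFun := downFun I M
  map_add' x y := co_ext fun m => rfl
  map_smul' a x := co_ext fun m => by
    rw [RingHom.id_apply]
    show co (downFun I M (a • (x : plus I M))) m = co (a • downFun I M x) m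
    rw [co_downFun, Submodule.coe_smul, co_smul, co_smul, Finset.Nat.antidiagonal_succ', Finset.sum_cons,
      show co (x : (gN I M).carrier) 0 = 0 from (x : plus I M).2, smul_zero, zero_add, Finset.sum_map]
    rfl

theorem co_down (x : plus I M) (m : ℕ) :
    co (down I M x) m = co (x : (gN I M).carrier) (m + 1) := rfl

theorem down_injective : Function.Injective (down I M) := fun x y h => by
  refine Subtype.ext (co_ext fun m => ?_)
  cases m with
  | zero => exact ((x : plus I M).2).trans ((y : plus I M).2).symm
  | succ m => exact congrArg (fun z => co z m) h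

theorem down_deg : GrLC.IsGrHomDeg (gP I M).gr (gN I M).gr (down I M) (-1) := fun g (x : plus I M) hx => by
  intro m hm
  exact co_of_mem (show (x : (gN I M).carrier) ∈ (gN I M).gr g from hx) (m + 1) fun h => hm (by
    show (m : ℤ) = g + -1
    push_cast at h; omega)

theorem mem_range_down_iff (y : (gN I M).carrier) :
    y ∈ LinearMap.range (down I M) ↔ ∀ m, co y m ∈ (I ^ (m + 1) • ⊤ : Submodule A M) := by
  constructor
  · rintro ⟨x, rfl⟩ m
    exact co_mem (x : (gN I M).carrier) (m + 1)
  · intro h
    let z : (gN I M).carrier :=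
      (⟨PolynomialModule.ofCoeff A (Finsupp.mapDomain (fun k => k + 1)
        ((sub y : PolynomialModule A M).coeff)), fun m => by
          show (Finsupp.mapDomain (fun k => k + 1) _ : ℕ →₀ M) m ∈ _
          cases m with
          | zero =>
            rw [Finsupp.mapDomain_notin_range _ _ (by rintro ⟨k, hk⟩; simp at hk)]
            exact zero_mem _
          | succ m =>
            rw [Finsupp.mapDomain_apply (fun a b h => by simpa using h)]
            exact h m⟩ : (Rees.powFilt I M).submodule)
    have hz : z ∈ plus I M := by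
      show (Finsupp.mapDomain (fun k => k + 1) _ : ℕ →₀ M) 0 = 0
      rw [Finsupp.mapDomain_notin_range _ _ (by rintro ⟨k, hk⟩; simp at hk)]
    refine ⟨(⟨z, hz⟩ : plus I M), co_ext fun m => ?_⟩
    rw [co_down]
    show (Finsupp.mapDomain (fun k => k + 1) _ : ℕ →₀ M) (m + 1) = _
    rw [Finsupp.mapDomain_apply (fun a b h => by simpa using h)]
    rfl

/-- The associated graded module. -/
noncomputable def gC : GrLC.GMod.{u} (gR I) :=
  quotG (gR I) (ℳ := (gN I M).gr) (LinearMap.range (down I M)) (fun g y hy => by
    show pr (gN I M).gr g y ∈ LinearMap.range (down I M)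
    rw [mem_range_down_iff] at hy ⊢
    intro m
    rw [co_pr]
    split_ifs
    · exact hy m
    · exact zero_mem _)

theorem killed_gC : Killed (I.map (rho I)) (gC I M) := by
  intro r hr x
  induction hr using Submodule.span_induction generalizing x with
  | mem r hr =>
    obtain ⟨a, ha, rfl⟩ := hr
    induction x using Submodule.Quotient.induction_on with
    | _ y =>
      show algebraMap A (reesAlgebra I) a • (LinearMap.range (down I M)).mkQ y = 0
      rw [← map_smul, Submodule.mkQ_apply, Submodule.Quotient.mk_eq_zero, mem_range_down_iff]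
      intro m
      rw [co_algebraMap_smul, pow_succ', Submodule.mul_smul]
      exact Submodule.smul_mem_smul ha (co_mem y m)
  | zero => exact zero_smul _ x
  | add r s _ _ h h' => rw [Subring.coe_add, add_smul, h, h', add_zero]
  | smul c r _ h => rw [smul_eq_mul, Subring.coe_mul, mul_smul, h, smul_zero]

/-- The graded piece `IⁿM ⧸ Iⁿ⁺¹M`. -/
abbrev grPc (n : ℕ) : Type u :=
  ↥(I ^ n • ⊤ : Submodule A M) ⧸ (I ^ (n + 1) • ⊤ : Submodule A M).comap (I ^ n • ⊤ : Submodule A M).subtype

/-- An element in a single degree. -/
noncomputable def mono (n : ℕ) (v : ↥(I ^ n • ⊤ : Submodule A M)) : (gN I M).carrier :=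
  ((Rees.mdegEquiv (Rees.powFilt I M) n v : Rees.mdeg (Rees.powFilt I M) n) : (Rees.powFilt I M).submodule)

theorem co_mono (n : ℕ) (v : ↥(I ^ n • ⊤ : Submodule A M)) (m : ℕ) :
    co (mono I M n v) m = if n = m then (v : M) else 0 := Finsupp.single_apply

theorem mono_mem (n : ℕ) (v : ↥(I ^ n • ⊤ : Submodule A M)) : mono I M n v ∈ (gN I M).gr (n : ℤ) := fun m hm => by
  show co (mono I M n v) m = 0
  rw [co_mono, if_neg (fun h => hm (by simp [h]))]

theorem length_comp_gC (n : ℕ) :
    Module.length (GrLC.deg0 (gR I)) (GrLC.comp (gR I) (gC I M).gr (n : ℤ)) = Module.length A (grPc I M n) := by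
  letI : Algebra A (GrLC.deg0 (gR I)) := (rho I).toAlgebra
  letI : Module A (GrLC.comp (gR I) (gC I M).gr (n : ℤ)) := Module.compHom _ (rho I)
  haveI : IsScalarTower A (GrLC.deg0 (gR I)) (GrLC.comp (gR I) (gC I M).gr (n : ℤ)) :=
    IsScalarTower.of_algebraMap_smul fun r x => rfl
  rw [← Module.length_eq_of_surjective (R := GrLC.deg0 (gR I)) (S := A) (rho_surjective I)]
  let ψ : ↥(I ^ n • ⊤ : Submodule A M) →ₗ[A] GrLC.comp (gR I) (gC I M).gr (n : ℤ) :=
    { toFun := fun v => ⟨(LinearMap.range (down I M)).mkQ (mono I M n v), mono I M n v, mono_mem I M n v, rfl⟩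
      map_add' := fun v w => Subtype.ext (by
        show (LinearMap.range (down I M)).mkQ (mono I M n (v + w)) = _
        rw [show mono I M n (v + w) = mono I M n v + mono I M n w from co_ext fun m => by
          rw [co_add, co_mono, co_mono, co_mono]; split_ifs <;> simp, map_add]
        rfl)
      map_smul' := fun a v => Subtype.ext (by
        show (LinearMap.range (down I M)).mkQ (mono I M n (a • v)) =
          algebraMap A (reesAlgebra I) a • (LinearMap.range (down I M)).mkQ (mono I M n v)
        rw [← map_smul, show mono I M n (a • v) = algebraMap A (reesAlgebra I) a • mono I M n v from co_ext fun m => by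
          rw [co_algebraMap_smul, co_mono, co_mono]; split_ifs <;> simp]) }
  have hψ : Function.Surjective ψ := by
    rintro ⟨_, y, hy, rfl⟩
    refine ⟨⟨co y n, co_mem y n⟩, Subtype.ext ?_⟩
    show (LinearMap.range (down I M)).mkQ (mono I M n ⟨co y n, _⟩) = (LinearMap.range (down I M)).mkQ y
    congr 1
    refine co_ext fun m => ?_
    rw [co_mono]
    split_ifs with h
    · subst h; rfl
    · exact (co_of_mem hy m (fun e => h (by omega))).symm
  have hker : LinearMap.ker ψ = (I ^ (n + 1) • ⊤ : Submodule A M).comap (I ^ n • ⊤ : Submodule A M).subtype := by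
    ext v
    rw [LinearMap.mem_ker, Submodule.mem_comap, Submodule.subtype_apply, ← Subtype.coe_inj]
    show (LinearMap.range (down I M)).mkQ (mono I M n v) = 0 ↔ _
    rw [Submodule.mkQ_apply, Submodule.Quotient.mk_eq_zero, mem_range_down_iff]
    refine ⟨fun h => ?_, fun h m => ?_⟩
    · have := h n
      rwa [co_mono, if_pos rfl] at this
    · rw [co_mono]
      split_ifs with h'
      · subst h'; exact h
      · exact zero_mem _
  exact ((Submodule.quotEquivOfEq _ _ hker.symm).trans (ψ.quotKerEquivOfSurjective hψ)).symm.length_eq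

theorem length_quot_succ (n : ℕ) :
    Module.length A (M ⧸ (I ^ (n + 1) • ⊤ : Submodule A M)) =
      Module.length A (grPc I M n) + Module.length A (M ⧸ (I ^ n • ⊤ : Submodule A M)) := by
  have hle : (I ^ (n + 1) • ⊤ : Submodule A M) ≤ I ^ n • ⊤ :=
    Submodule.smul_mono_left (Ideal.pow_le_pow_right (Nat.le_succ n))
  refine Module.length_eq_add_of_exact
    (Submodule.mapQ _ _ (I ^ n • ⊤ : Submodule A M).subtype le_rfl) (Submodule.factor hle) ?_
    (Submodule.factor_surjective hle) ?_
  · rw [← LinearMap.ker_eq_bot, Submodule.ker_mapQ, Submodule.mkQ_map_self]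
  · intro x
    induction x using Submodule.Quotient.induction_on with
    | _ y =>
      rw [Submodule.factor, Submodule.mapQ_apply, LinearMap.id_apply, Submodule.Quotient.mk_eq_zero]
      constructor
      · intro h
        exact ⟨Submodule.Quotient.mk ⟨y, h⟩, rfl⟩
      · rintro ⟨z, hz⟩
        induction z using Submodule.Quotient.induction_on with
        | _ v =>
          have h2 := (Submodule.Quotient.eq _).1 hz
          have h3 := sub_mem (v.2 : (v : M) ∈ (I ^ n • ⊤ : Submodule A M)) (hle h2)
          simpa using h3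

end ReesSerreLib
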